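import Groth.Agent.Lib.ResExt.Algebraic
import Mathlib.RingTheory.AlgebraicIndependent.TranscendenceBasis
import Mathlib.RingTheory.Localization.AtPrime.Basic
import Mathlib.RingTheory.LocalRing.ResidueField.Basic
import Mathlib.RingTheory.Noetherian.Basic
import Mathlib.RingTheory.MvPolynomial.Basic
import Mathlib.RingTheory.Flat.Localization

/-!
# Flat local extensions with prescribed residue field
-/

open IsLocalRing

namespace Groth.Agent.ResExt

universe u

/-- a flat local extension with `m R' = m'` and a surjection to `K` with kernel `m'` -/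
theorem exists_flat_local_extension {R K : Type u} [CommRing R] [IsLocalRing R] [Field K]
    [Algebra (ResidueField R) K] :
    ∃ (R' : Type u) (_ : CommRing R') (_ : IsLocalRing R') (_ : Algebra R R') (_ : IsLocalHom (algebraMap R R'))
      (φ : R' →+* K), Module.Flat R R' ∧ (maximalIdeal R).map (algebraMap R R') = maximalIdeal R' ∧
      Function.Surjective φ ∧ RingHom.ker φ = maximalIdeal R' ∧
      ∀ r, φ (algebraMap R R' r) = algebraMap (ResidueField R) K (residue R r) := by
  classical
  obtain ⟨T, hT⟩ := exists_isTranscendenceBasis (ResidueField R) K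
  let x : T → K := Subtype.val
  let S := MvPolynomial T R
  let red : S →+* MvPolynomial T (ResidueField R) := MvPolynomial.map (residue R)
  let ev : MvPolynomial T (ResidueField R) →+* K := (MvPolynomial.aeval x).toRingHom
  have hinj : Function.Injective ev := hT.1
  let P : Ideal S := RingHom.ker red
  have hP : P = (maximalIdeal R).map MvPolynomial.C := by
    show RingHom.ker (MvPolynomial.map (residue R)) = _
    rw [MvPolynomial.ker_map, IsLocalRing.ker_residue]
  haveI : P.IsPrime := RingHom.ker_isPrime _
  let R₀ := Localization.AtPrime P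
  have hev0 : ∀ p : S, ev (red p) = 0 ↔ p ∈ P := fun p => by
    rw [RingHom.mem_ker, map_eq_zero_iff ev hinj]
  let χ : R₀ →+* K := IsLocalization.lift (M := P.primeCompl) (g := ev.comp red)
    fun y => isUnit_iff_ne_zero.2 fun h => y.2 ((hev0 y).1 h)
  have hχS : ∀ p : S, χ (algebraMap S R₀ p) = ev (red p) := fun p => IsLocalization.lift_eq _ p
  have hχR : ∀ r, χ (algebraMap R R₀ r) = algebraMap (ResidueField R) K (residue R r) := fun r => by
    rw [IsScalarTower.algebraMap_apply R S R₀, hχS]
    show MvPolynomial.aeval x (MvPolynomial.map (residue R) (MvPolynomial.C r : MvPolynomial T R)) = _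
    rw [MvPolynomial.map_C, MvPolynomial.aeval_C]
  have hm0 : maximalIdeal R₀ = (maximalIdeal R).map (algebraMap R R₀) := by
    rw [← Localization.AtPrime.map_eq_maximalIdeal]
    exact (congrArg (Ideal.map (algebraMap S R₀)) hP).trans (Ideal.map_map _ _)
  have hm : ∀ a ∈ maximalIdeal R₀, χ a = 0 := by
    intro a ha
    have hle : maximalIdeal R₀ ≤ RingHom.ker χ := by
      rw [← Localization.AtPrime.map_eq_maximalIdeal, Ideal.map_le_iff_le_comap]
      intro p hp
      rw [Ideal.mem_comap, RingHom.mem_ker, hχS]
      exact (hev0 p).2 hp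
    exact hle ha
  letI : Algebra R₀ K := χ.toAlgebra
  let ψ : ResidueField R₀ →+* K := Ideal.Quotient.lift _ χ hm
  letI : Algebra (ResidueField R₀) K := ψ.toAlgebra
  haveI : IsScalarTower R₀ (ResidueField R₀) K := IsScalarTower.of_algebraMap_eq fun _ => rfl
  have hadj : ∀ b ∈ Algebra.adjoin (ResidueField R) (Set.range x), b ∈ ψ.range := by
    intro b hb
    induction hb using Algebra.adjoin_induction with
    | mem b hb =>
      obtain ⟨t, rfl⟩ := hb
      refine ⟨residue _ (algebraMap S R₀ (MvPolynomial.X t)), ?_⟩
      show χ _ = _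
      rw [hχS]
      show MvPolynomial.aeval x (MvPolynomial.map (residue R) (MvPolynomial.X t : MvPolynomial T R)) = _
      rw [MvPolynomial.map_X, MvPolynomial.aeval_X]
    | algebraMap c =>
      obtain ⟨r, rfl⟩ := residue_surjective c
      exact ⟨residue _ (algebraMap R R₀ r), hχR r⟩
    | add _ _ _ _ ha hb => exact add_mem ha hb
    | mul _ _ _ _ ha hb => exact mul_mem ha hb
  have hint : ∀ a : K, IsIntegral R₀ a := by
    intro a
    obtain ⟨p, hp0, hpa⟩ := hT.isAlgebraic.isAlgebraic a
    have hlift : p.map (algebraMap _ K) ∈ Polynomial.lifts ψ := by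
      refine (Polynomial.lifts_iff_coeff_lifts _).2 fun n => ?_
      rw [Polynomial.coeff_map]
      exact hadj _ (p.coeff n).2
    obtain ⟨q, hq⟩ := (Polynomial.mem_lifts _).1 hlift
    have halg : IsAlgebraic (ResidueField R₀) a := by
      refine ⟨q, fun h0 => hp0 ?_, ?_⟩
      · rw [h0, Polynomial.map_zero] at hq
        exact Polynomial.map_injective _ Subtype.val_injective (hq.symm.trans (Polynomial.map_zero _).symm)
      · rw [Polynomial.aeval_def, ← Polynomial.eval_map]
        show Polynomial.eval a (q.map ψ) = 0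
        rw [hq, Polynomial.eval_map, ← Polynomial.aeval_def]
        exact hpa
    obtain ⟨g, hg, hga⟩ := halg.isIntegral
    obtain ⟨g', hg', -, hg'm⟩ := Polynomial.lifts_and_degree_eq_and_monic
      ((Polynomial.mem_lifts _).2 (Polynomial.map_surjective _ residue_surjective g)) hg
    refine ⟨g', hg'm, ?_⟩
    rw [← hg', Polynomial.eval₂_map] at hga
    exact hga
  obtain ⟨s, hs⟩ := exists_top (R := R₀) (K := K) hm hint
  obtain ⟨hsurj, hloc, hmax, hlh⟩ := properties hm s hs
  haveI := hloc
  haveI := hlh
  haveI := s.flat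
  haveI : Module.Flat R S := inferInstance
  haveI : Module.Flat S R₀ := IsLocalization.flat R₀ P.primeCompl
  haveI : Module.Flat R R₀ := Module.Flat.trans R S R₀
  haveI : Module.Flat R s.Ring' := Module.Flat.trans R R₀ s.Ring'
  have hmap : (maximalIdeal R).map (algebraMap R s.Ring') = maximalIdeal s.Ring' := by
    rw [hmax, hm0, Ideal.map_map, ← IsScalarTower.algebraMap_eq]
  refine ⟨s.Ring', inferInstance, hloc, inferInstance,
    ((local_hom_TFAE (algebraMap R s.Ring')).out 0 2).2 hmap.le, (s.toK : s.Ring' →+* K), inferInstance, hmap,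
    hsurj, ?_, fun r => ?_⟩
  · show RingHom.ker s.toK = _
    rw [hmax]; exact s.ker_toK
  · rw [IsScalarTower.algebraMap_apply R R₀ s.Ring']
    exact (s.toK.commutes _).trans (hχR r)

/-- a finite flat local extension with prescribed finite residue field extension -/
theorem exists_finite_flat_local_extension {R K : Type u} [CommRing R] [IsLocalRing R] [IsNoetherianRing R]
    [Field K] [Algebra (ResidueField R) K] [Module.Finite (ResidueField R) K] :
    ∃ (R' : Type u) (_ : CommRing R') (_ : IsLocalRing R') (_ : Algebra R R') (_ : IsLocalHom (algebraMap R R'))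
      (φ : R' →+* K), Module.Flat R R' ∧ Module.Finite R R' ∧
      (maximalIdeal R).map (algebraMap R R') = maximalIdeal R' ∧
      Function.Surjective φ ∧ RingHom.ker φ = maximalIdeal R' ∧
      ∀ r, φ (algebraMap R R' r) = algebraMap (ResidueField R) K (residue R r) := by
  letI : Algebra R K := ((algebraMap (ResidueField R) K).comp (residue R)).toAlgebra
  haveI : IsScalarTower R (ResidueField R) K := IsScalarTower.of_algebraMap_eq fun _ => rfl
  haveI : Module.Finite R (ResidueField R) :=
    Module.Finite.of_surjective (Algebra.linearMap R (ResidueField R)) residue_surjective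
  haveI : Module.Finite R K := Module.Finite.trans (ResidueField R) K
  haveI : IsNoetherian R K := isNoetherian_of_isNoetherianRing_of_finite R K
  have hm : ∀ r ∈ maximalIdeal R, algebraMap R K r = 0 := fun r hr => by
    show algebraMap (ResidueField R) K (residue R r) = 0
    rw [(residue_eq_zero_iff r).2 hr, map_zero]
  obtain ⟨s₀, hs₀⟩ := Stage.exists_base (K := K) hm
  let A : Set (Submodule R K) := {N | ∃ s : Stage R K, Module.Finite R s.Ring' ∧ Subalgebra.toSubmodule s.L = N}
  obtain ⟨N, ⟨s, hsf, rfl⟩, hmaxN⟩ := set_has_maximal_iff_noetherian.2 ‹_› A ⟨_, s₀, hs₀, rfl⟩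
  have hs : s.L = ⊤ := by
    refine eq_top_iff.2 fun a _ => ?_
    by_contra ha
    obtain ⟨t, hst, hat, htf⟩ := s.exists_step hm a (Algebra.IsIntegral.isIntegral a) ha
    refine hmaxN _ ⟨t, htf hsf, rfl⟩ (lt_of_le_not_ge (Subalgebra.toSubmodule.monotone hst.1) fun h => ha ?_)
    exact h hat
  obtain ⟨hsurj, hloc, hmax, hlh⟩ := properties hm s hs
  exact ⟨s.Ring', inferInstance, hloc, inferInstance, hlh, (s.toK : s.Ring' →+* K), s.flat, hsf, hmax.symm, hsurj,
    (show RingHom.ker s.toK = _ by rw [hmax]; exact s.ker_toK), fun r => s.toK.commutes r⟩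

end Groth.Agent.ResExt
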