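import Groth.Agent.Lib.ResExt.Basic
import Groth.Agent.Lib.Compl.Noetherian
import Groth.Agent.Lib.FlatH4.LocCrit
import Mathlib.LinearAlgebra.TensorProduct.Quotient

/-!
# Noetherian flat extensions with prescribed residue field
-/

open IsLocalRing TensorProduct

namespace Groth.Agent.ResExt

universe u

theorem flat_adicCompletion {A R' : Type u} [CommRing A] [IsLocalRing A] [IsNoetherianRing A] [CommRing R']
    [IsLocalRing R'] [Algebra A R'] [Module.Flat A R']
    (hmap : (maximalIdeal A).map (algebraMap A R') = maximalIdeal R') :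
    IsNoetherianRing (AdicCompletion (maximalIdeal R') R') ∧
      Module.Flat A (AdicCompletion (maximalIdeal R') R') := by
  let C := AdicCompletion (maximalIdeal R') R'
  have hfg : (maximalIdeal R').FG := hmap ▸ Ideal.FG.map (maximalIdeal A).fg_of_isNoetherianRing _
  letI : Field (R' ⧸ maximalIdeal R') := Ideal.Quotient.field _
  haveI : IsNoetherianRing C := Compl.isNoetherianRing_adicCompletion _ hfg
  haveI : IsLocalRing C := AdicCompletion.isLocalRing_of_fg hfg
  have hmax := AdicCompletion.maximalIdeal_eq_map_of_fg hfg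
  refine ⟨inferInstance, ?_⟩
  refine FlatH4.flat_of_forall_flat_quotient_pow (S := C) (maximalIdeal A) ?_ fun n _ => ?_
  · refine le_trans ?_ (le_of_eq (IsLocalRing.jacobson_eq_maximalIdeal (⊥ : Ideal C) bot_ne_top).symm)
    rw [IsScalarTower.algebraMap_eq A R' C, ← Ideal.map_map, hmap]
    exact hmax.ge
  let I := maximalIdeal A ^ n
  let f : R' →ₗ[A] C := (IsScalarTower.toAlgHom A R' C).toLinearMap
  have hmem : ∀ c : C, c ∈ (I • ⊤ : Submodule A C) ↔ AdicCompletion.eval (maximalIdeal R') R' n c = 0 := by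
    intro c
    rw [← LinearMap.mem_ker, ← AdicCompletion.pow_smul_top_eq_ker_eval hfg, Ideal.smul_top_eq_map,
      Ideal.smul_top_eq_map, Submodule.restrictScalars_mem, Submodule.restrictScalars_mem, Ideal.map_pow,
      Ideal.map_pow, IsScalarTower.algebraMap_eq A R' C, ← Ideal.map_map, hmap]
  have heval : ∀ r : R', AdicCompletion.eval (maximalIdeal R') R' n (f r) = Submodule.Quotient.mk r := fun r => rfl
  let g := AlgebraTensorModule.lTensor (A ⧸ I) (A ⧸ I) f
  have hone : ∀ {M : Type u} [AddCommGroup M] [Module A M] (z : (A ⧸ I) ⊗[A] M), ∃ x, (1 : A ⧸ I) ⊗ₜ[A] x = z := by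
    intro M _ _ z
    induction z using TensorProduct.induction_on with
    | zero => exact ⟨0, tmul_zero _ _⟩
    | add a b ha hb =>
      obtain ⟨x, rfl⟩ := ha
      obtain ⟨y, rfl⟩ := hb
      exact ⟨x + y, tmul_add _ _ _⟩
    | tmul a x =>
      obtain ⟨a, rfl⟩ := Ideal.Quotient.mk_surjective a
      exact ⟨a • x, by rw [tmul_smul, smul_tmul', Algebra.smul_def, mul_one]; rfl⟩
  have hzero : ∀ {M : Type u} [AddCommGroup M] [Module A M] (x : M),
      (1 : A ⧸ I) ⊗ₜ[A] x = 0 ↔ x ∈ (I • ⊤ : Submodule A M) := by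
    intro M _ _ x
    rw [← (quotTensorEquivQuotSMul M I).map_eq_zero_iff,
      quotTensorEquivQuotSMul_mk_one_tmul, Submodule.Quotient.mk_eq_zero]
  have hg : Function.Bijective g := by
    constructor
    · rw [injective_iff_map_eq_zero]
      intro z hz
      obtain ⟨x, rfl⟩ := hone z
      have h1 : (1 : A ⧸ I) ⊗ₜ[A] f x = 0 := hz
      rw [hzero, hmem, heval, Submodule.Quotient.mk_eq_zero] at h1
      rw [hzero]
      rw [smul_eq_mul, Ideal.mul_top, ← hmap, ← Ideal.map_pow] at h1
      rw [Ideal.smul_top_eq_map]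
      exact h1
    · intro z
      obtain ⟨c, rfl⟩ := hone z
      obtain ⟨r, hr⟩ := Submodule.Quotient.mk_surjective _ (AdicCompletion.eval (maximalIdeal R') R' n c)
      refine ⟨(1 : A ⧸ I) ⊗ₜ[A] r, ?_⟩
      show (1 : A ⧸ I) ⊗ₜ[A] f r = _
      rw [← sub_eq_zero, ← tmul_sub, hzero, hmem, map_sub, heval, hr, sub_self]
  exact Module.Flat.of_linearEquiv (LinearEquiv.ofBijective g hg).symm

end Groth.Agent.ResExt
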