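import Mathlib.RingTheory.Flat.EquationalCriterion
import Mathlib.RingTheory.Flat.Stability
import Mathlib.RingTheory.AdjoinRoot
import Mathlib.RingTheory.Ideal.GoingUp
import Mathlib.RingTheory.IntegralClosure.IsIntegralClosure.Basic
import Mathlib.RingTheory.LocalRing.MaximalIdeal.Basic
import Mathlib.Algebra.MvPolynomial.Rename
import Mathlib.Algebra.Polynomial.Lifts
import Mathlib.FieldTheory.Minpoly.Field
import Mathlib.Order.Zorn
import Mathlib.Algebra.Algebra.Subalgebra.Directed
import Mathlib.RingTheory.LocalRing.RingHom.Basic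

/-!
# Flat extensions with prescribed algebraic residue field extension
-/

open IsLocalRing Polynomial

namespace Groth.Agent.ResExt

universe u

variable {R : Type u} [CommRing R] [IsLocalRing R] {K : Type u} [Field K] [Algebra R K]

/-- evaluation on the tautological variables -/
noncomputable abbrev evL (L : Subalgebra R K) : MvPolynomial L R →ₐ[R] K :=
  MvPolynomial.aeval fun b : L => (b : K)

variable (R K) in
/-- a partial lift of the residue extension -/
structure Stage : Type u where
  L : Subalgebra R K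
  J : Ideal (MvPolynomial L R)
  flat : Module.Flat R (MvPolynomial L R ⧸ J)
  integral : ∀ b : L, IsIntegral R (Ideal.Quotient.mk J (MvPolynomial.X b))
  ker_ev : J ⊔ (maximalIdeal R).map MvPolynomial.C = RingHom.ker (evL L)

namespace Stage

instance : Preorder (Stage R K) where
  le s t := ∃ h : s.L ≤ t.L, s.J ≤ t.J.comap (MvPolynomial.rename (R := R) (Subalgebra.inclusion h))
  le_refl s := ⟨le_rfl, fun p hp => by
    have : (⇑(Subalgebra.inclusion (le_refl s.L)) : s.L → s.L) = id := funext fun _ => rfl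
    simpa [this] using hp⟩
  le_trans := fun _ _ _ ⟨h₁, e₁⟩ ⟨h₂, e₂⟩ => ⟨h₁.trans h₂, fun p hp => by
    have h3 := e₂ (e₁ hp)
    rwa [Ideal.mem_comap, MvPolynomial.rename_rename] at h3⟩

/-- the ring of a stage -/
abbrev Ring' (s : Stage R K) : Type u := MvPolynomial s.L R ⧸ s.J

theorem isIntegral (s : Stage R K) : Algebra.IsIntegral R s.Ring' := by
  refine ⟨fun x => ?_⟩
  obtain ⟨p, rfl⟩ := Ideal.Quotient.mk_surjective x
  induction p using MvPolynomial.induction_on with
  | C a => exact isIntegral_algebraMap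
  | add p q hp hq => rw [map_add]; exact hp.add hq
  | mul_X p i hp => rw [map_mul]; exact hp.mul (s.integral i)

/-- the map to `K` -/
noncomputable def toK (s : Stage R K) : s.Ring' →ₐ[R] K :=
  Ideal.Quotient.liftₐ s.J (evL s.L) fun p hp => s.ker_ev.le (Ideal.mem_sup_left hp)

theorem toK_mk (s : Stage R K) (p) : s.toK (Ideal.Quotient.mk s.J p) = evL s.L p := rfl

theorem ker_toK (s : Stage R K) :
    RingHom.ker s.toK = (maximalIdeal R).map (algebraMap R s.Ring') := by
  have hmap : (maximalIdeal R).map (algebraMap R s.Ring') =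
      ((maximalIdeal R).map MvPolynomial.C).map (Ideal.Quotient.mk s.J) := by
    rw [Ideal.map_map]; rfl
  rw [hmap]
  ext x
  obtain ⟨p, rfl⟩ := Ideal.Quotient.mk_surjective x
  rw [RingHom.mem_ker, toK_mk, ← RingHom.mem_ker, ← s.ker_ev, Ideal.mem_map_iff_of_surjective _ Ideal.Quotient.mk_surjective]
  constructor
  · intro h
    obtain ⟨a, ha, b, hb, rfl⟩ := Submodule.mem_sup.1 h
    exact ⟨b, hb, by rw [map_add, Ideal.Quotient.eq_zero_iff_mem.2 ha, zero_add]⟩
  · rintro ⟨b, hb, e⟩
    have := Ideal.Quotient.eq.1 e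
    rw [show p = -(b - p) + b by ring]
    exact Submodule.add_mem_sup (neg_mem this) hb

theorem mem_range_toK (s : Stage R K) (b : K) : b ∈ s.toK.range ↔ b ∈ s.L := by
  constructor
  · rintro ⟨x, rfl⟩
    obtain ⟨p, rfl⟩ := Ideal.Quotient.mk_surjective x
    show evL s.L p ∈ s.L
    induction p using MvPolynomial.induction_on with
    | C a => rw [MvPolynomial.aeval_C]; exact s.L.algebraMap_mem a
    | add p q hp hq => rw [map_add]; exact add_mem hp hq
    | mul_X p i hp => rw [map_mul, MvPolynomial.aeval_X]; exact mul_mem hp i.2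
  · intro hb
    exact ⟨Ideal.Quotient.mk _ (MvPolynomial.X ⟨b, hb⟩), by simp [toK_mk]⟩

/-- a stage from a presentation -/
theorem exists_ofSurjective (L : Subalgebra R K) (T : Type u) [CommRing T] [Algebra R T]
    [Module.Flat R T] [Algebra.IsIntegral R T] (φ : MvPolynomial L R →ₐ[R] T) (hφ : Function.Surjective φ)
    (τ : T →ₐ[R] K) (hτ : τ.comp φ = evL L) (hker : RingHom.ker τ = (maximalIdeal R).map (algebraMap R T)) :
    ∃ s : Stage R K, ∃ h : L = s.L, Nonempty (s.Ring' ≃ₐ[R] T) ∧
      ∀ p ∈ RingHom.ker φ, MvPolynomial.rename (Subalgebra.inclusion h.le) p ∈ s.J := by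
  let e : (MvPolynomial L R ⧸ RingHom.ker φ) ≃ₐ[R] T := Ideal.quotientKerAlgEquivOfSurjective hφ
  have hflat : Module.Flat R (MvPolynomial L R ⧸ RingHom.ker φ) := Module.Flat.of_linearEquiv e.toLinearEquiv
  have hint : ∀ b, IsIntegral R (Ideal.Quotient.mk (RingHom.ker φ) (MvPolynomial.X b)) := fun b => by
    have h := (Algebra.IsIntegral.isIntegral (R := R) (e (Ideal.Quotient.mk _ (MvPolynomial.X b)))).map e.symm.toAlgHom
    simpa using h
  have hk : RingHom.ker φ ⊔ (maximalIdeal R).map MvPolynomial.C = RingHom.ker (evL L) := by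
    have hmap : (maximalIdeal R).map (algebraMap R T) =
        ((maximalIdeal R).map (MvPolynomial.C : R →+* MvPolynomial L R)).map (φ : MvPolynomial L R →+* T) := by
      rw [Ideal.map_map]
      congr 1
      exact RingHom.ext fun r => (φ.commutes r).symm
    ext p
    rw [RingHom.mem_ker, ← hτ, AlgHom.comp_apply, ← RingHom.mem_ker (f := τ), hker, hmap,
      Ideal.mem_map_iff_of_surjective (φ : MvPolynomial L R →+* T) hφ]
    constructor
    · intro h
      obtain ⟨a, ha, b, hb, rfl⟩ := Submodule.mem_sup.1 h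
      exact ⟨b, hb, by simp [(RingHom.mem_ker).1 ha]⟩
    · rintro ⟨b, hb, e⟩
      rw [show p = (p - b) + b by ring]
      exact Submodule.add_mem_sup (by rw [RingHom.mem_ker, map_sub, sub_eq_zero]; exact e.symm) hb
  refine ⟨⟨L, RingHom.ker φ, hflat, hint, hk⟩, rfl, ⟨e⟩, fun p hp => ?_⟩
  have : (⇑(Subalgebra.inclusion (le_refl L)) : L → L) = id := funext fun _ => rfl
  simpa [this] using hp

theorem exists_base (hm : ∀ r ∈ maximalIdeal R, algebraMap R K r = 0) :
    ∃ s : Stage R K, Module.Finite R s.Ring' := by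
  choose c hc using fun b : (⊥ : Subalgebra R K) => Algebra.mem_bot.1 b.2
  have hker : RingHom.ker (Algebra.ofId R K) = (maximalIdeal R).map (algebraMap R R) := by
    rw [Algebra.algebraMap_self, Ideal.map_id]
    refine le_antisymm (le_maximalIdeal ?_) fun r hr => hm r hr
    intro h
    have : (1 : R) ∈ RingHom.ker (Algebra.ofId R K) := by rw [h]; exact Submodule.mem_top
    simp at this
  obtain ⟨s, -, ⟨e⟩, -⟩ := exists_ofSurjective (⊥ : Subalgebra R K) R (MvPolynomial.aeval c)
    (fun r => ⟨MvPolynomial.C r, by simp⟩) (Algebra.ofId R K)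
    (MvPolynomial.algHom_ext fun b => by simp [Algebra.ofId_apply, hc]) hker
  exact ⟨s, Module.Finite.equiv e.symm.toLinearEquiv⟩

theorem exists_step (hm : ∀ r ∈ maximalIdeal R, algebraMap R K r = 0) (s : Stage R K) (α : K)
    (hα : IsIntegral R α) (hαL : α ∉ s.L) :
    ∃ t : Stage R K, s ≤ t ∧ α ∈ t.L ∧ (Module.Finite R s.Ring' → Module.Finite R t.Ring') := by
  classical
  let T := s.Ring'
  haveI := s.flat
  haveI := s.isIntegral
  let τ : T →ₐ[R] K := s.toK
  let M : Ideal T := RingHom.ker τ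
  haveI : M.IsPrime := RingHom.ker_isPrime _
  have hcomap : M.comap (algebraMap R T) = maximalIdeal R := by
    refine le_antisymm (le_maximalIdeal (Ideal.IsPrime.ne_top inferInstance)) fun r hr => ?_
    rw [Ideal.mem_comap, RingHom.mem_ker, AlgHom.commutes]; exact hm r hr
  haveI : M.IsMaximal := Ideal.isMaximal_of_isIntegral_of_isMaximal_comap M (hcomap ▸ maximalIdeal.isMaximal R)
  letI : Field (T ⧸ M) := Ideal.Quotient.field M
  letI : Algebra (T ⧸ M) K := (Ideal.Quotient.lift M τ.toRingHom fun _ h => h).toAlgebra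
  haveI : IsScalarTower R (T ⧸ M) K := IsScalarTower.of_algebraMap_eq fun r => (τ.commutes r).symm
  have hακ : IsIntegral (T ⧸ M) α := hα.tower_top
  obtain ⟨g, hgmap, -, hg⟩ := lifts_and_degree_eq_and_monic
    ((Polynomial.mem_lifts _).2 (Polynomial.map_surjective (Ideal.Quotient.mk M) Ideal.Quotient.mk_surjective (minpoly (T ⧸ M) α)))
    (minpoly.monic hακ)
  have hev : ∀ q : T[X], q.eval₂ τ.toRingHom α = aeval α (q.map (Ideal.Quotient.mk M)) := fun q => by
    rw [aeval_def, eval₂_map]; rfl
  have hg0 : g.eval₂ τ.toRingHom α = 0 := by rw [hev, hgmap, minpoly.aeval]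
  let T' := AdjoinRoot g
  let τ' : T' →ₐ[R] K :=
    { AdjoinRoot.lift τ.toRingHom α hg0 with
      commutes' := fun r => by
        show AdjoinRoot.lift τ.toRingHom α hg0 (algebraMap R T' r) = _
        rw [IsScalarTower.algebraMap_apply R T T', AdjoinRoot.algebraMap_eq, AdjoinRoot.lift_of]
        exact τ.commutes r }
  have hτ'of : ∀ x, τ' (AdjoinRoot.of g x) = τ x := fun x => AdjoinRoot.lift_of hg0
  have hτ'root : τ' (AdjoinRoot.root g) = α := AdjoinRoot.lift_root hg0
  haveI : Module.Free T T' := hg.free_adjoinRoot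
  haveI : Module.Finite T T' := hg.finite_adjoinRoot
  haveI : Module.Flat R T' := Module.Flat.trans R T T'
  haveI : Algebra.IsIntegral R T' := Algebra.IsIntegral.trans T
  have hker : RingHom.ker τ' = (maximalIdeal R).map (algebraMap R T') := by
    have e1 : (maximalIdeal R).map (algebraMap R T') = M.map (AdjoinRoot.of g) := by
      rw [show M = (maximalIdeal R).map (algebraMap R T) from s.ker_toK, Ideal.map_map]
      congr 1
    rw [e1]
    refine le_antisymm (fun z hz => ?_) (Ideal.map_le_iff_le_comap.2 fun x hx => ?_)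
    · obtain ⟨q, rfl⟩ := AdjoinRoot.mk_surjective z
      have h0 : aeval α (q.map (Ideal.Quotient.mk M)) = 0 := by
        rw [← hev]
        have : AdjoinRoot.lift τ.toRingHom α hg0 (AdjoinRoot.mk g q) = 0 := hz
        rwa [AdjoinRoot.lift_mk] at this
      obtain ⟨h, hh⟩ := minpoly.dvd (T ⧸ M) α h0
      obtain ⟨h', rfl⟩ := Polynomial.map_surjective (Ideal.Quotient.mk M) Ideal.Quotient.mk_surjective h
      have hmem : q - g * h' ∈ M.map (C : T →+* T[X]) := by
        rw [Ideal.mem_map_C_iff]
        intro i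
        rw [← Ideal.Quotient.eq_zero_iff_mem, ← Polynomial.coeff_map, Polynomial.map_sub, Polynomial.map_mul, hgmap, hh, sub_self, coeff_zero]
      have h2 := Ideal.mem_map_of_mem (AdjoinRoot.mk g) hmem
      rw [Ideal.map_map, map_sub, map_mul, AdjoinRoot.mk_self, zero_mul, sub_zero] at h2
      exact h2
    · rw [Ideal.mem_comap, RingHom.mem_ker, hτ'of]; exact hx
  let L' := τ'.range
  have hLL' : s.L ≤ L' := fun b hb => by
    obtain ⟨x, hx⟩ := (s.mem_range_toK b).2 hb
    exact ⟨AdjoinRoot.of g x, (hτ'of x).trans hx⟩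
  choose pre hpre using fun b : L' => b.2
  let c : L' → T' := fun b =>
    if hb : (b : K) ∈ s.L then AdjoinRoot.of g (Ideal.Quotient.mk s.J (MvPolynomial.X ⟨b, hb⟩))
    else if (b : K) = α then AdjoinRoot.root g else pre b
  have hc : ∀ b, τ' (c b) = b := fun b => by
    simp only [c]
    split_ifs with h1 h2
    · rw [hτ'of]; exact (s.toK_mk _).trans (MvPolynomial.aeval_X _ _)
    · rw [hτ'root, h2]
    · exact hpre b
  let φ : MvPolynomial L' R →ₐ[R] T' := MvPolynomial.aeval c
  have hφrename : ∀ p, φ (MvPolynomial.rename (Subalgebra.inclusion hLL') p) = AdjoinRoot.of g (Ideal.Quotient.mk s.J p) := by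
    intro p
    induction p using MvPolynomial.induction_on with
    | C a => simp [φ]; rfl
    | add p q hp hq => simp only [map_add, hp, hq]
    | mul_X p i hp =>
      simp only [map_mul, hp, MvPolynomial.rename_X]
      congr 1
      simp only [φ, MvPolynomial.aeval_X, c, Subalgebra.coe_inclusion, dif_pos i.2]
  have hαL' : α ∈ L' := ⟨AdjoinRoot.root g, hτ'root⟩
  have hφ : Function.Surjective φ := by
    intro z
    obtain ⟨q, rfl⟩ := AdjoinRoot.mk_surjective z
    show AdjoinRoot.mk g q ∈ φ.range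
    induction q using Polynomial.induction_on' with
    | add p q hp hq => rw [map_add]; exact add_mem hp hq
    | monomial n a =>
      rw [← Polynomial.C_mul_X_pow_eq_monomial, map_mul, map_pow, AdjoinRoot.mk_X]
      refine mul_mem ?_ (pow_mem ((AlgHom.mem_range φ).2 ⟨MvPolynomial.X ⟨α, hαL'⟩, ?_⟩) n)
      · obtain ⟨p, rfl⟩ := Ideal.Quotient.mk_surjective a
        exact (AlgHom.mem_range φ).2 ⟨MvPolynomial.rename (Subalgebra.inclusion hLL') p, by rw [AdjoinRoot.mk_C]; exact hφrename p⟩
      · simp [φ, c, hαL]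
  obtain ⟨t, hL, ⟨e⟩, ht⟩ := exists_ofSurjective L' T' φ hφ τ' (MvPolynomial.algHom_ext fun b => by simp [φ, hc]) hker
  refine ⟨t, ⟨hLL'.trans hL.le, fun p hp => ?_⟩, hL.le hαL', fun h => ?_⟩
  · have h1 : φ (MvPolynomial.rename (Subalgebra.inclusion hLL') p) = 0 := by
      rw [hφrename, Ideal.Quotient.eq_zero_iff_mem.2 hp, map_zero]
    have h2 := ht _ (RingHom.mem_ker.2 h1)
    rw [MvPolynomial.rename_rename] at h2
    exact h2
  · haveI : Module.Finite R T' := Module.Finite.trans T T'
    exact Module.Finite.equiv e.symm.toLinearEquiv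

theorem exists_upperBound (c : Set (Stage R K)) (hc : IsChain (· ≤ ·) c) (hne : c.Nonempty) :
    BddAbove c := by
  classical
  haveI : Nonempty c := hne.to_subtype
  have hdir : Directed (· ≤ ·) (fun i : c => i.1.L) := fun i j => by
    rcases hc.total i.2 j.2 with h | h
    · exact ⟨j, h.1, le_rfl⟩
    · exact ⟨i, le_rfl, h.1⟩
  let L : Subalgebra R K := ⨆ i : c, i.1.L
  have hle : ∀ i : c, i.1.L ≤ L := fun i => le_iSup (fun i : c => i.1.L) i
  let r : ∀ i : c, MvPolynomial i.1.L R →ₐ[R] MvPolynomial L R := fun i => MvPolynomial.rename (Subalgebra.inclusion (hle i))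
  let J : Ideal (MvPolynomial L R) := ⨆ i : c, i.1.J.map (r i)
  have hcomp : ∀ (i j : c) (h : i.1 ≤ j.1) p, r j (MvPolynomial.rename (Subalgebra.inclusion h.1) p) = r i p :=
    fun i j h p => by
      show MvPolynomial.rename _ (MvPolynomial.rename _ p) = _
      rw [MvPolynomial.rename_rename]; rfl
  have hJdir : Directed (· ≤ ·) (fun i : c => i.1.J.map (r i)) := fun i j => by
    have key : ∀ i j : c, i.1 ≤ j.1 → i.1.J.map (r i) ≤ j.1.J.map (r j) := fun i j h =>
      Ideal.map_le_iff_le_comap.2 fun p hp => by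
        rw [Ideal.mem_comap, ← hcomp i j h]; exact Ideal.mem_map_of_mem _ (h.2 hp)
    rcases hc.total i.2 j.2 with h | h
    · exact ⟨j, key i j h, le_rfl⟩
    · exact ⟨i, le_rfl, key j i h⟩
  -- lifting finitely many polynomials to one stage
  have hlift₁ : ∀ p : MvPolynomial L R, ∃ i : c, ∃ p', r i p' = p := by
    intro p
    induction p using MvPolynomial.induction_on with
    | C a => exact ⟨Classical.arbitrary c, MvPolynomial.C a, by simp [r]⟩
    | add p q hp hq =>
      obtain ⟨i, p', rfl⟩ := hp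
      obtain ⟨j, q', rfl⟩ := hq
      rcases hc.total i.2 j.2 with h | h
      · exact ⟨j, MvPolynomial.rename (Subalgebra.inclusion h.1) p' + q', by rw [map_add, hcomp i j h]⟩
      · exact ⟨i, p' + MvPolynomial.rename (Subalgebra.inclusion h.1) q', by rw [map_add, hcomp j i h]⟩
    | mul_X p b hp =>
      obtain ⟨i, p', rfl⟩ := hp
      obtain ⟨j, hb⟩ : ∃ j : c, (b : K) ∈ j.1.L := by
        have hb : (b : K) ∈ ((⨆ i : c, i.1.L : Subalgebra R K) : Set K) := b.2
        rw [Subalgebra.coe_iSup_of_directed hdir] at hb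
        simpa using hb
      rcases hc.total i.2 j.2 with h | h
      · refine ⟨j, MvPolynomial.rename (Subalgebra.inclusion h.1) p' * MvPolynomial.X ⟨b, hb⟩, ?_⟩
        rw [map_mul, hcomp i j h]; simp [r]
      · refine ⟨i, p' * MvPolynomial.X ⟨b, h.1 hb⟩, ?_⟩
        rw [map_mul]; simp [r]
  have hlift : ∀ i₀ : c, ∀ (n : ℕ) (q : Fin n → MvPolynomial L R), ∃ j : c, i₀.1 ≤ j.1 ∧ ∀ k, ∃ q', r j q' = q k := by
    intro i₀ n
    induction n with
    | zero => exact fun q => ⟨i₀, le_rfl, fun k => k.elim0⟩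
    | succ n ih =>
      intro q
      obtain ⟨j, hj, hq⟩ := ih fun k => q k.succ
      obtain ⟨i, q₀, hq₀⟩ := hlift₁ (q 0)
      rcases hc.total i.2 j.2 with h | h
      · refine ⟨j, hj, fun k => Fin.cases ⟨_, (hcomp i j h q₀).trans hq₀⟩ (fun k => hq k) k⟩
      · refine ⟨i, hj.trans h, fun k => Fin.cases ⟨q₀, hq₀⟩ (fun k => ?_) k⟩
        obtain ⟨q', hq'⟩ := hq k
        exact ⟨_, (hcomp j i h q').trans hq'⟩
  have hrev : ∀ (i : c) p, evL L (r i p) = evL i.1.L p := fun i p => by
    show MvPolynomial.aeval _ (MvPolynomial.rename _ p) = _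
    rw [MvPolynomial.aeval_rename]; rfl
  have hflat : Module.Flat R (MvPolynomial L R ⧸ J) := by
    refine Module.Flat.of_forall_isTrivialRelation fun {l} {a} {x} hax => ?_
    choose p hp using fun k => Ideal.Quotient.mk_surjective (x k)
    have hmem : ∑ k, a k • p k ∈ J := by
      rw [← Ideal.Quotient.eq_zero_iff_mem, map_sum, ← hax]
      exact Finset.sum_congr rfl fun k _ => by rw [← hp k]; rfl
    obtain ⟨i, hi⟩ := (Submodule.mem_iSup_of_directed _ hJdir).1 hmem
    obtain ⟨j, hij, hq⟩ := hlift i l p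
    choose q hq using hq
    have hinj : Function.Injective (r j) := MvPolynomial.rename_injective _ (Subalgebra.inclusion_injective _)
    have hrel : ∑ k, a k • Ideal.Quotient.mk j.1.J (q k) = 0 := by
      have h2 : ∑ k, a k • p k ∈ j.1.J.map (r j) := by
        refine (Ideal.map_le_iff_le_comap.2 fun z hz => ?_) hi
        rw [Ideal.mem_comap, ← hcomp i j hij]; exact Ideal.mem_map_of_mem _ (hij.2 hz)
      have h3 : ∑ k, a k • q k ∈ j.1.J := by
        have e : ∑ k, a k • p k = r j (∑ k, a k • q k) := by simp [map_sum, hq]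
        rw [e] at h2
        -- pull back along the retraction
        obtain ⟨ρ, hρ⟩ : ∃ ρ : MvPolynomial L R →ₐ[R] MvPolynomial j.1.L R, ∀ z, ρ (r j z) = z := by
          refine ⟨MvPolynomial.aeval fun b : L => if h : (b : K) ∈ j.1.L then MvPolynomial.X ⟨b, h⟩ else 0, fun z => ?_⟩
          show MvPolynomial.aeval _ (MvPolynomial.rename _ z) = z
          rw [MvPolynomial.aeval_rename]
          refine (congrArg (fun f => MvPolynomial.aeval f z) (funext fun b => ?_)).trans (MvPolynomial.aeval_X_left_apply z)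
          simp
        have h4 := Ideal.mem_map_of_mem (ρ : MvPolynomial L R →+* MvPolynomial j.1.L R) h2
        rw [← Ideal.map_coe (r j), Ideal.map_map, show ((ρ : MvPolynomial L R →+* MvPolynomial j.1.L R).comp (r j : _ →+* _)) = RingHom.id _ from RingHom.ext hρ, Ideal.map_id] at h4
        rw [RingHom.coe_coe, hρ] at h4
        exact h4
      rw [← Ideal.Quotient.eq_zero_iff_mem, map_sum] at h3
      rw [← h3]
      exact Finset.sum_congr rfl fun k _ => rfl
    haveI := j.1.flat
    obtain ⟨m, b, y, hy, hb⟩ := Module.Flat.isTrivialRelation_of_sum_smul_eq_zero hrel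
    let ψ : j.1.Ring' →ₐ[R] MvPolynomial L R ⧸ J :=
      Ideal.Quotient.liftₐ _ ((Ideal.Quotient.mkₐ R J).comp (r j)) fun z hz => by
        exact Ideal.Quotient.eq_zero_iff_mem.2 (le_iSup (fun i : c => i.1.J.map (r i)) j (Ideal.mem_map_of_mem _ hz))
    refine ⟨m, b, ψ ∘ y, fun k => ?_, hb⟩
    have := congrArg ψ (hy k)
    simp only [map_sum, map_smul] at this
    rw [← hp k, ← hq k]
    exact this
  have hint : ∀ b : L, IsIntegral R (Ideal.Quotient.mk J (MvPolynomial.X b)) := by
    intro b
    obtain ⟨j, p, hp⟩ := hlift₁ (MvPolynomial.X b)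
    haveI := j.1.isIntegral
    have h := (Algebra.IsIntegral.isIntegral (R := R) (Ideal.Quotient.mk j.1.J p)).map
      (Ideal.Quotient.liftₐ j.1.J ((Ideal.Quotient.mkₐ R J).comp (r j)) fun z hz => by
        exact Ideal.Quotient.eq_zero_iff_mem.2 (le_iSup (fun i : c => i.1.J.map (r i)) j (Ideal.mem_map_of_mem _ hz)))
    rw [← hp]; exact h
  have hker : J ⊔ (maximalIdeal R).map MvPolynomial.C = RingHom.ker (evL L) := by
    refine le_antisymm (sup_le (iSup_le fun i => Ideal.map_le_iff_le_comap.2 fun p hp => ?_)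
      (Ideal.map_le_iff_le_comap.2 fun a ha => ?_)) fun p hp => ?_
    · rw [Ideal.mem_comap, RingHom.mem_ker, hrev]; exact i.1.ker_ev.le (Ideal.mem_sup_left hp)
    · obtain ⟨i⟩ := (inferInstance : Nonempty c)
      have := i.1.ker_ev.le (Ideal.mem_sup_right (Ideal.mem_map_of_mem _ ha))
      rw [Ideal.mem_comap, RingHom.mem_ker, MvPolynomial.aeval_C]
      simpa using this
    · obtain ⟨i, p', rfl⟩ := hlift₁ p
      rw [RingHom.mem_ker, hrev, ← RingHom.mem_ker (f := evL i.1.L), ← i.1.ker_ev] at hp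
      obtain ⟨a, ha, b, hb, rfl⟩ := Submodule.mem_sup.1 hp
      rw [map_add]
      refine Submodule.add_mem_sup (le_iSup (fun i : c => i.1.J.map (r i)) i (Ideal.mem_map_of_mem _ ha)) ?_
      have := Ideal.mem_map_of_mem (r i : MvPolynomial i.1.L R →+* MvPolynomial L R) hb
      rw [Ideal.map_map, show (r i : MvPolynomial i.1.L R →+* MvPolynomial L R).comp MvPolynomial.C = MvPolynomial.C from
        RingHom.ext fun a => (r i).commutes a] at this
      exact this
  exact ⟨⟨L, J, hflat, hint, hker⟩, fun i hi => ⟨hle ⟨i, hi⟩, fun p hp =>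
    le_iSup (fun i : c => i.1.J.map (r i)) ⟨i, hi⟩ (Ideal.mem_map_of_mem _ hp)⟩⟩

end Stage

/-- the final properties of a complete stage -/
theorem properties (hm : ∀ r ∈ maximalIdeal R, algebraMap R K r = 0) (s : Stage R K) (hs : s.L = ⊤) :
    Function.Surjective s.toK ∧ ∃ _ : IsLocalRing s.Ring',
      maximalIdeal s.Ring' = (maximalIdeal R).map (algebraMap R s.Ring') ∧
      IsLocalHom (algebraMap R s.Ring') := by
  haveI := s.isIntegral
  have hsurj : Function.Surjective s.toK := fun b => (s.mem_range_toK b).2 (hs ▸ Algebra.mem_top)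
  haveI hM : (RingHom.ker s.toK).IsMaximal := RingHom.ker_isMaximal_of_surjective _ hsurj
  have huniq : ∀ N : Ideal s.Ring', N.IsMaximal → N = RingHom.ker s.toK := by
    intro N hN
    refine (hM.eq_of_le hN.ne_top ?_).symm
    rw [s.ker_toK, Ideal.map_le_iff_le_comap]
    exact (eq_maximalIdeal (Ideal.isMaximal_comap_of_isIntegral_of_isMaximal (R := R) N)).ge
  haveI : IsLocalRing s.Ring' := IsLocalRing.of_unique_max_ideal ⟨_, hM, huniq⟩
  have hmax : maximalIdeal s.Ring' = (maximalIdeal R).map (algebraMap R s.Ring') := by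
    rw [← s.ker_toK]; exact huniq _ (maximalIdeal.isMaximal _)
  refine ⟨hsurj, inferInstance, hmax, ?_⟩
  exact ((IsLocalRing.local_hom_TFAE (algebraMap R s.Ring')).out 0 2).2 hmax.ge

theorem exists_top (hm : ∀ r ∈ maximalIdeal R, algebraMap R K r = 0) (hint : ∀ a : K, IsIntegral R a) :
    ∃ s : Stage R K, s.L = ⊤ := by
  obtain ⟨s₀, -⟩ := Stage.exists_base (K := K) hm
  haveI : Nonempty (Stage R K) := ⟨s₀⟩
  obtain ⟨s, hs⟩ := zorn_le_nonempty fun c hc hne => Stage.exists_upperBound (R := R) (K := K) c hc hne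
  refine ⟨s, eq_top_iff.2 fun a _ => ?_⟩
  by_contra ha
  obtain ⟨t, hst, hat, -⟩ := s.exists_step hm a (hint a) ha
  exact ha ((hs hst).1 hat)

end Groth.Agent.ResExt
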